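import Cfsg.Agent.H661.SporTab
import Cfsg.Agent.NotCT.Orders
import Cfsg.Agent.HN.AutHS

/-!
# `HS`: a real element of order 7, from the permutations of degree 100
-/

set_option autoImplicit false

namespace Cfsg.Agent.H661.Spor

open Subgroup H722.RealP Cfsg.Agent.NotCT Cfsg.Agent.SporadicA.PermTab

namespace HS

open Cfsg.Agent.HN.HS100

/-- table of an involution -/
def T : ℕ := 0x7c0e80d04c01e1641880604e02c2f01800401c0482909600c1083308c11c168600a60881e83409c13c0601e0240dc1e02502218c2484101a188020140840a8028480a00382e8150020ac2681705c0d82a0240b60642002803a1282881f04011011800010184130580580401803801410c1f8160be0c81d8450b404c2a81b0ac1701a8390a415c1781c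

theorem inT : InG Q T := word_of (L := [tY, tY, tY, tY, tY, tW, tW, tW, tW, tW, tX, tY, tY, tY, tY, tY, tX, tY, tX, tW, tY]) (mem3 inX inY inW) (by simp)
  (by decide +kernel)

theorem hasReal_Q : HasReal 7 Q :=
  Tab.hasReal inX inT (by norm_num) (by decide +kernel) (by decide +kernel) (by decide +kernel) 0
    (by decide +kernel)

theorem hasReal : HasReal 7 Cfsg.Spor.HS := by
  obtain ⟨⟨e⟩, -⟩ := Cfsg.Agent.HN.AutHS.nonempty_Q
  exact hasReal_Q.map_equiv e

end HS

theorem hs {S : Type*} [Group S] (h : Cfsg.Spor.IsoHS S) : P1 S := by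
  have hc := Orders.hs h
  obtain ⟨e⟩ := h
  exact P1.of_hasReal (r := 7) (by norm_num) (by norm_num) (by rw [hc]; norm_num)
    (HS.hasReal.map_equiv e.symm)

end Cfsg.Agent.H661.Spor
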