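import Cfsg.Agent.H573.Spor.Co0
import Cfsg.Agent.TypeM.FactsMcL
import Cfsg.Agent.H661.SporEven

/-!
# A real element of order 5 of `McL` with a centralizer of odd order

`x`, `c`, `t` are elements of `McL` given by matrices: `x`, `c` have order 5, the involution `t` inverts `x` and commutes with
`c`, and `x`, `c` have different numbers of fixed points on `Λ / 2Λ`. All elements of order 5 commuting with an
involution generate conjugate subgroups (the centralizer of an involution is `2.A_8`), so no involution commutes with `x`.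
-/

set_option autoImplicit false
set_option maxRecDepth 100000

namespace Cfsg.Agent.H661.Spor.McL

open Subgroup Cfsg Cfsg.Agent.SporadicA Cfsg.Agent.SporadicStructure.Co0Matrix Cfsg.Agent.CoOneType.CoEval
open Cfsg.Agent.LThreeCo1.Ev Cfsg.Agent.LThreeMB.Fix Cfsg.Agent.MFive.FixN Cfsg.Agent.H573.Spor.Co0
open Cfsg.Agent.LThreeMB (fr)
open Cfsg.Spor (Co1)
open Cfsg.Agent.TypeM.Two Cfsg.Agent.H612.Even

/-! ### The elements -/

def nX : ℕ := 0xb420e842109421084a508421084a5283a5094a4e839d29420e93a529421084a5093a5283a4e7421293a4e94210849d074a5283a529420e74a4e94210942128421074210859d084210839ce83a5094a52849d274212749ce9421074216842109421084a508421084a5294212842107421083ad084210839ce849d094a52849ce7420e94a527421084a50949d284a529420e939ce74210839d093a4e84a529421294a4e7421084a50949ce83a527421274a5274210942128421074210839d08421083ace839d0949d284a4e9421273a52942109421284210b4210839d084210839ce849d074a4e84a5274212939d294210849d0939d2839d294212949d29421083a5074a5283a4e94212949d27421084a50749ce849ce9421294a4e9421083a50739d284a527420e94a529421084a5073a52849d29421273a5274210942128421074210839d084210859ce84a5093a4e84a4e9420e749d294210942128421074210839d084210839d6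
def nC : ℕ := 0xac62f8bdf18c5ef8c62f8ce318c6338c6338bdf18c5ef6c5b36be318c62f8c62f8cdf16c5f38b62f6be318c62f7bdf19c62f9be317be717c66f9bdf18b62f6bdf18c6736c62f8be318c62f7cdf17c62f7ce317bdf19c5f39bdf17ce717c6337be317ce717c5ef7bdf18c6338bded8c5f38c62f8be316b62f8b62f8be716c5ef8c6338be318b62f8c5af8bdf18b5f38c6338bdb18c62f9bdf17c62f7be317bdf17d5ef7bded7bdf17c62f7be319cdf17c6737cdf18c5af8ce718c5ef6c62f8be316c62f8c62f8bdf18c66f8b6338be316c5af8c62f8cdf18b66f8c5af8be318b62f7be719c62f7be317bdf19c5ef7ce718c62f8be6d8c66f8c62f6bdb18c62f7bdf17c6339ce319bdf17c5ef7be718c62f6cded8c5ef8c6338be2d8c62f8c5b38bdf16c66f8c62f8be2d8c62f8c62f8be718c5f38c5af8be2d8c5af8c6336be718b5ef8b62f8be318c62f8b6338cdf18c5ef8c62f8bdb18c5af9bdf17c62f7be317bdf17b5ef7bdf5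
def nT : ℕ := 0xb420e842109421084a508421084a5284a5073a52849d29421273a527421084a50749ce849ce9421294a4e9421074216842109421084a508421084a52839d0949d284a4e9421273a529421083a5094a52849d274212749ce94210849d074a5283a529420e74a4e94210849d094a52849ce7420e94a527421094212842107421083ad084210839ce84a50949d284a529420e939ce74210839d093a4e84a529421294a4e74210849d074a4e84a5274212939d29421084a5093a4e84a4e9420e749d294210942128421074210859d084210839ce9421284210b4210839d084210839ce84a50949ce83a527421274a527421083a50739d284a527420e94a529421083a5074a5283a4e94212949d27421084a5093a5283a4e7421293a4e94210849d0939d2839d294212949d29421083a5094a4e839d29420e93a5294210942128421074210839d084210859ce942128421074210839d08421083ace942128421074210839d084210839d6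

theorem okX : okN nX = true := by decide +kernel
theorem okC : okN nC = true := by decide +kernel
theorem okT : okN nT = true := by decide +kernel

def gX : Co0 := mk (ok_of_okN okX)
theorem repX : Rep gX (dec nX) := rep_mk _
def gC : Co0 := mk (ok_of_okN okC)
theorem repC : Rep gC (dec nC) := rep_mk _
def gT : Co0 := mk (ok_of_okN okT)
theorem repT : Rep gT (dec nT) := rep_mk _

/-- the elements -/
def e : ℕ → Co0
  | 0 => gX
  | 1 => gC
  | _ => gT

/-- their matrices -/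
def Ms : ℕ → List (List ℤ)
  | 0 => dec nX
  | 1 => dec nC
  | _ => dec nT

theorem hM : ∀ i, Rep (e i) (Ms i)
  | 0 => repX
  | 1 => repC
  | _ + 2 => repT

theorem x_pow : gX ^ 5 = 1 := by
  have h := eq_of_eqB hM (w := [0, 0, 0, 0, 0]) (w' := []) (by decide +kernel)
  simpa [e, pow_succ, mul_assoc] using h
theorem c_pow : gC ^ 5 = 1 := by
  have h := eq_of_eqB hM (w := [1, 1, 1, 1, 1]) (w' := []) (by decide +kernel)
  simpa [e, pow_succ, mul_assoc] using h
theorem t_sq : gT * gT = 1 := by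
  have h := eq_of_eqB hM (w := [2, 2]) (w' := []) (by decide +kernel)
  simpa [e, pow_succ, mul_assoc] using h
theorem x_ne : gX ≠ 1 := by
  have h := ne_of_neB' hM (w := [0]) (w' := []) (by decide +kernel)
  simpa [e, pow_succ, mul_assoc] using h
theorem c_ne : gC ≠ 1 := by
  have h := ne_of_neB' hM (w := [1]) (w' := []) (by decide +kernel)
  simpa [e, pow_succ, mul_assoc] using h
theorem t_ne : gT ≠ 1 := by
  have h := ne_of_neB' hM (w := [2]) (w' := []) (by decide +kernel)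
  simpa [e, pow_succ, mul_assoc] using h
theorem tx : gT * gX * (gT * gX) = 1 := by
  have h := eq_of_eqB hM (w := [2, 0, 2, 0]) (w' := []) (by decide +kernel)
  simpa [e, pow_succ, mul_assoc] using h
theorem tc : gT * gC = gC * gT := by
  have h := eq_of_eqB hM (w := [2, 1]) (w' := [1, 2]) (by decide +kernel)
  simpa [e, pow_succ, mul_assoc] using h

/-- fixed vectors and dual vectors -/
def vwX : List (List ℤ × List ℤ) := [
  ([12, -2, -8, 0, -2, 0, 0, -2, 2, -4, -4, -2, 2, 0, -4, -4, -4, 2, 0, -4, 2, 0, 0, -12],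
   [-12, 10, -2, 18, 22, 18, 18, 22, 22, 8, 4, 10, 22, 14, 4, 8, 8, 14, 8, 4, 14, 18, 18, 2]),
  ([-5, 5, -5, 1, -1, 1, 1, -1, -1, -3, -1, 5, -1, 3, -1, -3, -3, 3, -3, -1, 3, 1, 1, -15],
   [-17, 1, 3, 11, 17, 11, 23, 17, 21, 3, -9, 1, 21, 11, -9, 3, 3, 17, 7, -9, 17, 11, 11, -33]),
  ([-8, -2, 12, 0, -2, 0, 0, -2, 2, -4, -4, -2, 2, 0, -4, -4, -4, 2, 0, -4, 2, 0, 0, -12],
   [-16, 12, -6, 4, 6, 4, 12, 6, 6, -2, 0, 12, 6, 14, 0, -2, -2, 10, -2, 0, 10, 4, 4, -24]),
  ([-4, 0, -4, 4, 0, 4, -2, 0, 2, -2, -2, 0, 2, -2, -2, -2, -2, 2, 0, -2, 2, 4, 4, -16],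
   [7, 3, -13, 1, 5, 1, 19, 5, 13, -5, -9, 3, 13, 15, -9, -5, -5, 15, 3, -9, 15, 1, 1, -37]),
  ([-4, 0, -4, -2, 2, -2, 8, 2, 2, 0, -4, 0, 2, 4, -4, 0, 0, 4, 0, -4, 4, -2, -2, -16],
   [-13, 3, 7, 7, 3, 7, 9, 3, 13, -7, -7, 3, 13, 9, -7, -7, -7, 13, 3, -7, 13, 7, 7, -37]),
  ([4, 0, 4, 2, 6, 2, 10, 6, 10, 2, 0, 0, 10, 8, 0, 2, 2, 6, 6, 0, 6, 2, 2, 6],
   [-6, 6, -26, 10, 10, 10, 14, 10, 10, -2, -10, 6, 10, 6, -10, -2, -2, 14, -2, -10, 14, 10, 10, -54]),
  ([-7, 7, 3, 5, 5, 5, 3, 5, 5, 1, 5, 7, 5, 7, 5, 1, 1, 3, 1, 5, 3, 5, 5, 7],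
   [4, -4, 4, 0, -4, 0, 0, -4, 4, -8, -8, -4, 4, 0, -8, -8, -8, 4, 0, -8, 4, 0, 0, -24]),
  ([-5, 3, -5, 7, 11, 7, 7, 11, 5, 7, 1, 3, 5, 1, 1, 7, 7, 3, 1, 1, 3, 7, 7, 5],
   [11, 3, -9, 3, 3, 3, 11, 3, 11, -5, -5, 3, 11, 11, -5, -5, -5, 11, 3, -5, 11, 3, 3, -21])]

theorem frX : fr (QuotientGroup.mk gX : Co1) = 2 ^ 8 :=
  Cfsg.Agent.MFive.FixN.card_fix (n := 5) (by decide) repX (vw := vwX) (by decide +kernel) (by decide +kernel) (by decide +kernel) (by decide +kernel)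

/-- fixed vectors and dual vectors -/
def vwC : List (List ℤ × List ℤ) := [
  ([10, -4, -2, -2, -4, -2, 0, -4, 2, -4, -4, -4, 2, 0, -4, -4, -4, 2, 2, -4, 2, -2, -2, -10],
   [-7, -1, -1, -1, -1, -1, 1, -1, 1, -1, -1, -1, 1, 1, -1, -1, -1, 1, 1, -1, 1, -1, -1, -13]),
  ([-7, -1, -1, -1, -1, -1, 1, -1, 1, -1, -1, -1, 1, 1, -1, -1, -1, 1, 1, -1, 1, -1, -1, -13],
   [2, 0, 2, 2, 0, 2, 4, 0, 6, 0, 0, 0, 6, 4, 0, 0, 0, 6, 6, 0, 6, 2, 2, -2]),
  ([4, 2, 2, 2, 2, 2, 8, 2, 8, 2, 2, 2, 8, 8, 2, 2, 2, 8, 8, 2, 8, 2, 2, 6],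
   [-8, 4, 4, 4, 4, 4, 4, 4, 4, 4, 4, 4, 4, 4, 4, 4, 4, 4, 4, 4, 4, 4, 4, 8]),
  ([-8, 4, 4, 4, 4, 4, 4, 4, 4, 4, 4, 4, 4, 4, 4, 4, 4, 4, 4, 4, 4, 4, 4, 8],
   [-3, 1, 1, 1, 1, 1, 9, 1, 9, 1, 1, 1, 9, 9, 1, 1, 1, 9, 9, 1, 9, 1, 1, -7])]

theorem frC : fr (QuotientGroup.mk gC : Co1) = 2 ^ 4 :=
  Cfsg.Agent.MFive.FixN.card_fix (n := 5) (by decide) repC (vw := vwC) (by decide +kernel) (by decide +kernel) (by decide +kernel) (by decide +kernel)

theorem fr_ne : fr (QuotientGroup.mk gX : Co1) ≠ fr (QuotientGroup.mk gC : Co1) := by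
  rw [frX, frC]; norm_num

theorem memX : gX.1 ∈ Cfsg.Spor.McL := mem_McL repX (by decide +kernel) (by decide +kernel)
theorem memC : gC.1 ∈ Cfsg.Spor.McL := mem_McL repC (by decide +kernel) (by decide +kernel)
theorem memT : gT.1 ∈ Cfsg.Spor.McL := mem_McL repT (by decide +kernel) (by decide +kernel)

/-! ### Elements of order 5 commuting with involutions -/

section
variable {G : Type*} [Group G] [Finite G]

omit [Finite G] in
theorem card_C (L : MT 8 G) : Nat.card (centralizer ({L.t} : Set G)) = 40320 := by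
  have h1 : (L.K.π.ker : Set (centralizer ({L.t} : Set G))) = {1, L.K.z} := by
    ext x
    rw [SetLike.mem_coe, MonoidHom.mem_ker, L.K.ker]
    simp
  have h2 : Nat.card L.K.π.ker = 2 := by
    change Nat.card ↥(L.K.π.ker : Set (centralizer ({L.t} : Set G))) = 2
    rw [h1, Nat.card_coe_set_eq, Set.ncard_pair L.K.z_ne.symm]
  have h3 : Nat.card L.K.π.range = 20160 := by
    rw [L.K.range_eq, nat_card_alternatingGroup, Nat.card_eq_fintype_card, Fintype.card_fin]
    decide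
  have h4 := Subgroup.card_eq_card_quotient_mul_card_subgroup L.K.π.ker
  rw [Nat.card_congr (QuotientGroup.quotientKerEquivRange L.K.π).toEquiv, h2, h3] at h4
  rw [h4]

/-- Elements of order 5 commuting with involutions generate conjugate subgroups. -/
theorem conj_five (L : MT 8 G) {x c s t : G} (hx : orderOf x = 5) (hc : orderOf c = 5) (hs : s * s = 1)
    (hs1 : s ≠ 1) (hsx : s * x = x * s) (ht : t * t = 1) (ht1 : t ≠ 1) (htc : t * c = c * t) :
    ∃ (g : G) (k : ℤ), g * x * g⁻¹ = c ^ k := by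
  have hp5 : Fact (Nat.Prime 5) := ⟨by norm_num⟩
  obtain ⟨u, hu⟩ := L.one s hs hs1
  obtain ⟨v, hv⟩ := L.one t ht ht1
  have hcj : ∀ (g y : G), orderOf (g⁻¹ * y * g) = orderOf y := fun g y => by
    have := orderOf_injective (MulAut.conj g⁻¹).toMonoidHom (MulAut.conj g⁻¹).injective y
    simpa [MulAut.conj_apply] using this
  have hx1 : u⁻¹ * x * u ∈ centralizer ({L.t} : Set G) := by
    rw [mem_centralizer_singleton_iff]
    have h1 : u * L.t = s * u := by rw [← hu]; group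
    have h2 : L.t * u⁻¹ = u⁻¹ * s := by rw [← hu]; group
    calc u⁻¹ * x * u * L.t = u⁻¹ * x * (u * L.t) := by group
      _ = u⁻¹ * (x * s) * u := by rw [h1]; group
      _ = u⁻¹ * (s * x) * u := by rw [hsx]
      _ = (u⁻¹ * s) * x * u := by group
      _ = L.t * (u⁻¹ * x * u) := by rw [← h2]; group
  have hc1 : v⁻¹ * c * v ∈ centralizer ({L.t} : Set G) := by
    rw [mem_centralizer_singleton_iff]
    have h1 : v * L.t = t * v := by rw [← hv]; group
    have h2 : L.t * v⁻¹ = v⁻¹ * t := by rw [← hv]; group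
    calc v⁻¹ * c * v * L.t = v⁻¹ * c * (v * L.t) := by group
      _ = v⁻¹ * (c * t) * v := by rw [h1]; group
      _ = v⁻¹ * (t * c) * v := by rw [htc]
      _ = (v⁻¹ * t) * c * v := by group
      _ = L.t * (v⁻¹ * c * v) := by rw [← h2]; group
  have hCc := card_C L
  set C : Subgroup G := centralizer ({L.t} : Set G) with hC
  let x' : C := ⟨u⁻¹ * x * u, hx1⟩
  let c' : C := ⟨v⁻¹ * c * v, hc1⟩
  have hx' : orderOf x' = 5 := (Subgroup.orderOf_mk _ hx1).trans ((hcj u x).trans hx)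
  have hc' : orderOf c' = 5 := (Subgroup.orderOf_mk _ hc1).trans ((hcj v c).trans hc)
  have hsyl : ∀ y : C, orderOf y = 5 → ∃ P : Sylow 5 C, (P : Subgroup C) = zpowers y := by
    intro y hy
    have hZ : IsPGroup 5 (zpowers y) :=
      IsPGroup.of_card (n := 1) (by rw [Nat.card_zpowers, hy, pow_one])
    obtain ⟨P, hP⟩ := hZ.exists_le_sylow
    refine ⟨P, ?_⟩
    symm
    apply Subgroup.eq_of_le_of_card_ge hP
    rw [Nat.card_zpowers, hy, card_sylow_eq P (by rw [hCc]; norm_num) (by rw [hCc]; norm_num)]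
  obtain ⟨P, hP⟩ := hsyl x' hx'
  obtain ⟨Q, hQ⟩ := hsyl c' hc'
  obtain ⟨g, hg⟩ := MulAction.exists_smul_eq C P Q
  have h1 : g * x' * g⁻¹ ∈ (Q : Subgroup C) := by
    rw [← hg, Sylow.smul_def]
    refine ⟨x', ?_, rfl⟩
    show x' ∈ (P : Subgroup C)
    rw [hP]
    exact mem_zpowers x'
  rw [hQ] at h1
  obtain ⟨k, hk⟩ := mem_zpowers_iff.1 h1
  refine ⟨v * g * u⁻¹, k, ?_⟩
  have h2 := congrArg (Subtype.val) hk
  rw [Subgroup.coe_zpow, Subgroup.coe_mul, Subgroup.coe_mul, Subgroup.coe_inv] at h2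
  have h3 : (c' : G) ^ k = v⁻¹ * c ^ k * v := by
    show (v⁻¹ * c * v) ^ k = _
    have := conj_zpow (a := v⁻¹) (b := c) (i := k)
    rwa [inv_inv] at this
  rw [h3] at h2
  have h4 : c ^ k = v * ((g : G) * (u⁻¹ * x * u) * (g : G)⁻¹) * v⁻¹ := by
    change v⁻¹ * c ^ k * v = (g : G) * (u⁻¹ * x * u) * (g : G)⁻¹ at h2
    rw [← h2]; group
  rw [h4]; group

theorem odd_centralizer (L : MT 8 G) {x c t : G} (hx : orderOf x = 5) (hc : orderOf c = 5)
    (ht : t * t = 1) (ht1 : t ≠ 1) (htc : t * c = c * t) (hne : ∀ (g : G) (k : ℤ), g * x * g⁻¹ ≠ c ^ k) :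
    Odd (Nat.card (centralizer ({x} : Set G))) := by
  by_contra ho
  rw [Nat.not_odd_iff_even] at ho
  have h2 : Fact (Nat.Prime 2) := ⟨Nat.prime_two⟩
  obtain ⟨s, hs⟩ := exists_prime_orderOf_dvd_card' (G := centralizer ({x} : Set G)) 2 ho.two_dvd
  have h1 : s * s = 1 := by rw [← pow_two, ← hs]; exact pow_orderOf_eq_one s
  have h3 : s ≠ 1 := by
    rintro rfl
    rw [orderOf_one] at hs
    norm_num at hs
  obtain ⟨g, k, hgk⟩ := conj_five L (s := (s : G)) hx hc (congrArg Subtype.val h1)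
    (fun h => h3 (Subtype.ext h)) (mem_centralizer_singleton_iff.1 s.2) ht ht1 htc
  exact hne g k hgk

end

/-! ### The element of `McL` -/

/-- the elements of `McL` -/
def mx : Cfsg.Spor.McL := ⟨gX.1, memX⟩
@[inherit_doc mx] def mc : Cfsg.Spor.McL := ⟨gC.1, memC⟩
@[inherit_doc mx] def mi : Cfsg.Spor.McL := ⟨gT.1, memT⟩

theorem mcl_le : Cfsg.Spor.McL ≤ Co0 := fun _ h => h.1.1

theorem mx_pow : mx ^ 5 = 1 := Subtype.ext (show gX.1 ^ 5 = 1 from congrArg Subtype.val x_pow)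
theorem mc_pow : mc ^ 5 = 1 := Subtype.ext (show gC.1 ^ 5 = 1 from congrArg Subtype.val c_pow)
theorem mx_ne : mx ≠ 1 := fun h => x_ne (Subtype.ext (show gX.1 = 1 from congrArg Subtype.val h))
theorem mc_ne : mc ≠ 1 := fun h => c_ne (Subtype.ext (show gC.1 = 1 from congrArg Subtype.val h))
theorem mi_ne : mi ≠ 1 := fun h => t_ne (Subtype.ext (show gT.1 = 1 from congrArg Subtype.val h))
theorem mi_sq : mi * mi = 1 := Subtype.ext (show gT.1 * gT.1 = 1 from congrArg Subtype.val t_sq)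
theorem mi_mc : mi * mc = mc * mi :=
  Subtype.ext (show gT.1 * gC.1 = gC.1 * gT.1 from congrArg Subtype.val tc)
theorem mi_mx : mi * mx * (mi * mx) = 1 :=
  Subtype.ext (show gT.1 * gX.1 * (gT.1 * gX.1) = 1 from congrArg Subtype.val tx)

theorem not_conj (g : Cfsg.Spor.McL) (k : ℤ) : g * mx * g⁻¹ ≠ mc ^ k := by
  intro h
  have hp : (5 : ℕ).Prime := by norm_num
  have hp5 : Fact (Nat.Prime 5) := ⟨hp⟩
  have oa : orderOf mx = 5 := orderOf_eq_prime mx_pow mx_ne
  have oc : orderOf mc = 5 := orderOf_eq_prime mc_pow mc_ne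
  -- a natural number exponent
  obtain ⟨n, hn⟩ : ∃ n : ℕ, mc ^ k = mc ^ n := by
    refine ⟨(k % 5).toNat, ?_⟩
    have h1 : ((k % 5).toNat : ℤ) = k % 5 := Int.toNat_of_nonneg (Int.emod_nonneg _ (by norm_num))
    rw [← zpow_natCast, h1]
    have h2 := zpow_mod_orderOf mc k
    rw [oc] at h2
    exact h2.symm
  rw [hn] at h
  have hk : orderOf (mc ^ n) = 5 := by
    rw [← h, ← oa]
    have := orderOf_injective (MulAut.conj g).toMonoidHom (MulAut.conj g).injective mx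
    simpa [MulAut.conj_apply] using this
  have hz : zpowers (mc ^ n) = zpowers mc := by
    have : Finite (zpowers mc) := Nat.finite_of_card_ne_zero (by rw [Nat.card_zpowers, oc]; norm_num)
    apply Subgroup.eq_of_le_of_card_ge
    · rw [zpowers_le]; exact pow_mem (mem_zpowers _) n
    · rw [Nat.card_zpowers, Nat.card_zpowers, hk, oc]
  have hm : mc ∈ zpowers (mc ^ n) := by rw [hz]; exact mem_zpowers _
  obtain ⟨m, hm⟩ := mem_zpowers_iff.1 hm
  apply fr_ne
  have e1 : toCo1 Cfsg.Spor.McL mcl_le mx = (QuotientGroup.mk gX : Co1) := rfl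
  have e2 : toCo1 Cfsg.Spor.McL mcl_le mc = (QuotientGroup.mk gC : Co1) := rfl
  rw [← e1, ← e2]
  refine fr_eq_of_conj (u := toCo1 Cfsg.Spor.McL mcl_le g) (k := n) (m := m) ?_ ?_
  · rw [← map_inv, ← map_mul, ← map_mul, h, map_pow]
  · rw [← map_pow, ← map_zpow, hm]

end Cfsg.Agent.H661.Spor.McL

namespace Cfsg.Agent.H661.Spor

open Subgroup H612.Even McL

/-- **`McL`**: a real element of order 5 with a centralizer of odd order. -/
theorem mcl_data {S : Type*} [Group S] (h : Cfsg.Spor.IsoMcL S) :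
    ∃ y : S, orderOf y = 5 ∧ IsConj y y⁻¹ ∧ Odd (Nat.card (centralizer ({y} : Set S))) := by
  obtain ⟨f⟩ := h
  obtain ⟨hfin, -, -, ⟨L⟩⟩ := TypeM.FactsMcL.facts (M := Cfsg.Spor.McL) ⟨MulEquiv.refl _⟩
  have oa : orderOf mx = 5 := orderOf_eq_prime mx_pow mx_ne
  have oc : orderOf mc = 5 := orderOf_eq_prime mc_pow mc_ne
  have hodd := odd_centralizer L oa oc mi_sq mi_ne mi_mc not_conj
  have hreal : IsConj mx mx⁻¹ := by
    refine isConj_iff.2 ⟨mi, ?_⟩
    have h1 : mi⁻¹ = mi := inv_eq_of_mul_eq_one_left mi_sq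
    rw [h1]
    exact eq_inv_of_mul_eq_one_left (by rw [← mi_mx]; group)
  refine ⟨f.symm mx, by rw [MulEquiv.orderOf_eq, oa], ?_, ?_⟩
  · rw [← map_inv]
    exact MonoidHom.map_isConj f.symm.toMonoidHom hreal
  · have e : centralizer ({f.symm mx} : Set S) ≃ centralizer ({mx} : Set Cfsg.Spor.McL) :=
      Equiv.subtypeEquiv f.toEquiv fun a => by
        rw [mem_centralizer_singleton_iff, mem_centralizer_singleton_iff, ← f.injective.eq_iff,
          map_mul, map_mul, MulEquiv.apply_symm_apply]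
        rfl
    rw [Nat.card_congr e]
    exact hodd

theorem mcl_evenOver {S : Type*} [Group S] [Finite S] (h : Cfsg.Spor.IsoMcL S) : EvenOver S := by
  obtain ⟨y, hy, hreal, hodd⟩ := mcl_data h
  refine of_odd S y ?_ hreal hodd
  rintro rfl
  rw [orderOf_one] at hy
  norm_num at hy

end Cfsg.Agent.H661.Spor
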