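import Cfsg.Agent.H661.SporTools
import Cfsg.Agent.NotCT.Orders
import Cfsg.Agent.SporadicA.Co0Mono
import Cfsg.Agent.SporadicA.M24Gens
import Cfsg.Agent.SporadicA.Co0Basic
import Cfsg.Agent.S0371

/-!
# `Co1` and `Co2`: the prime 11, from the dihedral group of order 22 in `M24`
-/

set_option autoImplicit false

namespace Cfsg.Agent.H661.Spor

open Subgroup H722.RealP Cfsg.Agent.NotCT

namespace Eleven

open Cfsg.Agent.SporadicA

/-- multiplication by 2 -/
def u2 : (ZMod 23)ˣ := ⟨2, 12, by decide, by decide⟩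

def u5 : (ZMod 23)ˣ := ⟨5, 14, by decide, by decide⟩

theorem isSquare_u2 : IsSquare u2 := ⟨u5, by decide⟩

def xp : Equiv.Perm GolayPt := Equiv.optionCongr (Units.mulLeft u2)

theorem xp_mem : xp ∈ M24 := S0371.result u2 isSquare_u2

def x : M24 := ⟨xp, xp_mem⟩

def t : M24 := ⟨projInv, M24Gens.projInv_mem⟩

theorem xp_pow : xp ^ 11 = 1 := by
  apply Equiv.ext
  intro p
  revert p
  decide +kernel

theorem orderOf_x : orderOf x = 11 := by
  have : Fact (Nat.Prime 11) := ⟨by norm_num⟩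
  refine orderOf_eq_prime (Subtype.ext xp_pow) ?_
  intro h
  have := congrArg (fun g : M24 => (g : Equiv.Perm GolayPt) (some 1)) h
  revert this
  show xp (some 1) = some 1 → False
  decide +kernel

theorem t_sq : t * t = 1 := by
  apply Subtype.ext
  apply Equiv.ext
  intro p
  show projInv (projInv p) = p
  revert p
  decide +kernel

theorem orderOf_t : orderOf t = 2 := by
  refine orderOf_eq_prime (by rw [pow_two, t_sq]) ?_
  intro h
  have := congrArg (fun g : M24 => (g : Equiv.Perm GolayPt) none) h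
  revert this
  show projInv none = none → False
  decide +kernel

theorem conj : t * x * t⁻¹ = x⁻¹ := by
  rw [mul_inv_eq_iff_eq_mul, eq_inv_mul_iff_mul_eq]
  apply Subtype.ext
  apply Equiv.ext
  intro p
  show xp (projInv (xp p)) = projInv p
  revert p
  decide +kernel

theorem hasReal_m24 : HasReal 11 M24 := ⟨x, t, orderOf_x, ⟨1, by rw [orderOf_t]; rfl⟩, conj⟩

theorem permCo0_injective : Function.Injective Co0Mono.permCo0 := by
  rw [injective_iff_map_eq_one]
  intro σ hσ
  apply Subtype.ext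
  apply Equiv.ext
  intro i
  have h1 : (Co0Mono.permCo0 σ) • Co0Basic.e8 i = Co0Basic.e8 i := by rw [hσ, one_smul]
  have h2 := congrArg (fun v : leechLattice => (v : GolayPt → ℤ) ((σ : Equiv.Perm GolayPt) i)) h1
  rw [Co0Mono.permCo0_smul, Co0Mono.permMap_apply, Equiv.symm_apply_apply, Co0Basic.e8_apply,
    Co0Basic.e8_apply] at h2
  by_contra hne
  have hne' : ¬ (σ : Equiv.Perm GolayPt) i = i := hne
  rw [if_pos rfl, if_neg hne'] at h2
  norm_num at h2

theorem hasReal_co0 : HasReal 11 Co0 := hasReal_m24.map_injective _ permCo0_injective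

theorem hasReal_co1 : HasReal 11 Cfsg.Spor.Co1 := by
  obtain ⟨x, t, hx, ⟨k, hk⟩, hxt⟩ := hasReal_co0
  let f : Co0 →* Cfsg.Spor.Co1 := QuotientGroup.mk' (Subgroup.center Co0)
  have h1 : f x ≠ 1 := by
    intro h1
    rw [QuotientGroup.mk'_apply, QuotientGroup.eq_one_iff] at h1
    have h2 := orderOf_dvd_natCard (⟨x, h1⟩ : Subgroup.center Co0)
    rw [← Subgroup.orderOf_coe, hx, Co0Basic.card_center] at h2
    norm_num at h2
  have h2 : orderOf (f x) = 11 := by
    have : orderOf (f x) ∣ 11 := hx ▸ orderOf_map_dvd f x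
    rcases (Nat.dvd_prime (by norm_num)).1 this with h | h
    · exact absurd (orderOf_eq_one_iff.1 h) h1
    · exact h
  have h3 : orderOf (f t) ∣ 2 ^ k := hk ▸ orderOf_map_dvd f t
  obtain ⟨i, -, hi⟩ := (Nat.dvd_prime_pow Nat.prime_two).1 h3
  exact ⟨f x, f t, h2, ⟨i, hi⟩, by rw [← map_inv, ← map_mul, ← map_mul, hxt, map_inv]⟩

/-- A coordinate permutation preserving the pair `{∞, 0}` lies in `Co2`. -/
theorem mem_co2 {σ : M24} (h : ∀ p : GolayPt, ((σ : Equiv.Perm GolayPt).symm p = none ∨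
    (σ : Equiv.Perm GolayPt).symm p = some 0) ↔ (p = none ∨ p = some 0)) :
    (Co0Mono.permCo0 σ : Equiv.Perm leechLattice) ∈ Cfsg.Spor.Co2 := by
  refine ⟨(Co0Mono.permCo0 σ).2, ?_⟩
  show (Co0Mono.permCo0 σ : Equiv.Perm leechLattice) Cfsg.Spor.leechU = Cfsg.Spor.leechU
  apply Subtype.ext
  funext p
  show Cfsg.Spor.vecU ((σ : Equiv.Perm GolayPt).symm p) = Cfsg.Spor.vecU p
  unfold Cfsg.Spor.vecU
  simp only [h p]

theorem hasReal_co2 : HasReal 11 Cfsg.Spor.Co2 := by
  have hx : (Co0Mono.permCo0 x : Equiv.Perm leechLattice) ∈ Cfsg.Spor.Co2 := mem_co2 (by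
    show ∀ p : GolayPt, (xp.symm p = none ∨ xp.symm p = some 0) ↔ (p = none ∨ p = some 0)
    decide +kernel)
  have ht : (Co0Mono.permCo0 t : Equiv.Perm leechLattice) ∈ Cfsg.Spor.Co2 := mem_co2 (by
    show ∀ p : GolayPt, (projInv.symm p = none ∨ projInv.symm p = some 0) ↔ (p = none ∨ p = some 0)
    decide +kernel)
  refine ⟨⟨_, hx⟩, ⟨_, ht⟩, ?_, ⟨1, ?_⟩, ?_⟩
  · rw [Subgroup.orderOf_mk, Subgroup.orderOf_coe, orderOf_injective _ permCo0_injective, orderOf_x]
  · rw [Subgroup.orderOf_mk, Subgroup.orderOf_coe, orderOf_injective _ permCo0_injective, orderOf_t]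
    rfl
  · apply Subtype.ext
    have := congrArg (fun g : M24 => (Co0Mono.permCo0 g : Equiv.Perm leechLattice)) conj
    simpa using this

end Eleven

variable {S : Type*} [Group S]

theorem co1 (h : Cfsg.Spor.IsoCo1 S) : P1 S := by
  have hc := Orders.co1 h
  obtain ⟨e⟩ := h
  exact P1.of_hasReal (r := 11) (by norm_num) (by norm_num) (by rw [hc]; norm_num)
    (Eleven.hasReal_co1.map_equiv e.symm)

theorem co2 (h : Cfsg.Spor.IsoCo2 S) : P1 S := by
  have hc := Orders.co2 h
  obtain ⟨e⟩ := h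
  exact P1.of_hasReal (r := 11) (by norm_num) (by norm_num) (by rw [hc]; norm_num)
    (Eleven.hasReal_co2.map_equiv e.symm)

end Cfsg.Agent.H661.Spor
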