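import Cfsg.Agent.H661.SporAll
import Cfsg.Agent.H661.SporMcL

/-!
# Every sporadic group has fixed characters of even degree over it
-/

set_option autoImplicit false

namespace Cfsg.Agent.H661.Spor

open Subgroup H612.Even

/-- **The row of the sporadic groups.** -/
theorem evenOver_of_sporadic {S : Type*} [Group S] [Finite S] [IsSimpleGroup S] (h : IsSporadicGroup S) :
    EvenOver S :=
  (sporadic_evenOver h).elim id mcl_evenOver

/-- **The row of the Tits group.** -/
theorem evenOver_of_tits {S : Type*} [Group S] [Finite S] (h : Cfsg.Lie.IsoTits S) : EvenOver S :=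
  tits_evenOver h

end Cfsg.Agent.H661.Spor
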