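import Cfsg.Agent.H661.SporTools
import Cfsg.Agent.NotCT.Orders
import Cfsg.Agent.Fischer.Fi22Order
import Cfsg.Agent.H346.CoxA

/-!
# `Fi22`: a real element of order 7, from a diagram of type `A₆`
-/

set_option autoImplicit false

namespace Cfsg.Agent.H661.Spor

open Subgroup H722.RealP Cfsg.Agent.NotCT

namespace CoxSeven

open Equiv Cfsg.Agent.H346.CoxA

/-- the 7-cycle -/
def x7 : Perm (Fin 7) := finRotate 7
/-- an involution inverting it -/
def t7 : Perm (Fin 7) := swap 1 6 * swap 2 5 * swap 3 4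
/-- an element conjugating the 7-cycle -/
def g7 : Perm (Fin 7) := swap 2 6 * swap 3 5

theorem x7_pow : x7 ^ 7 = 1 := by decide +kernel
theorem t7_sq : t7 * t7 = 1 := by decide +kernel
theorem conj7 : t7 * x7 * t7⁻¹ = x7⁻¹ := by decide +kernel

/-- Six elements with the Coxeter relations of type `A₆`, the first two not equal. -/
theorem hasReal {G : Type*} [Group G] {s : ℕ → G} (h : Rel 6 s) (hne : s 1 * s 0 ≠ 1) : HasReal 7 G := by
  have : Fact (Nat.Prime 7) := ⟨by norm_num⟩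
  obtain ⟨f, hf⟩ := exists_hom 6 s h
  have h0 : f (swap 0 1) = s 0 := hf 0
  have h1 : f (swap 1 2) = s 1 := hf 1
  have hx : f x7 ≠ 1 := by
    intro hx
    apply hne
    have e : swap (1 : Fin 7) 2 * swap 0 1 = x7 * (g7 * x7 * g7⁻¹) := by decide +kernel
    rw [← h0, ← h1, ← map_mul, e, map_mul, map_mul, map_mul, hx, map_inv]
    group
  refine ⟨f x7, f t7, orderOf_eq_prime (by rw [← map_pow, x7_pow, map_one]) hx, ?_, ?_⟩
  · have : orderOf (f t7) ∣ 2 ^ 1 :=
      orderOf_dvd_of_pow_eq_one (by rw [pow_one, pow_two, ← map_mul, t7_sq, map_one])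
    obtain ⟨i, -, hi⟩ := (Nat.dvd_prime_pow Nat.prime_two).1 this
    exact ⟨i, hi⟩
  · rw [← map_inv, ← map_inv, ← map_mul, ← map_mul, conj7]

end CoxSeven

namespace Fi22

open Cfsg.Spor Cfsg.Spor.Fi22 Cfsg.Agent.Fischer.Fi22PtsRep Cfsg.Agent.Fischer.Fi22Order

/-- the path `a b c d e f` -/
def nd (i : ℕ) : Gen := match i with
  | 0 => .a
  | 1 => .b
  | 2 => .c
  | 3 => .d
  | 4 => .e
  | _ => .f

theorem lab3 : ∀ i : Fin 5, coxLabel edges (nd i) (nd (i + 1)) = 3 := by decide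

theorem lab2 : ∀ i j : Fin 6, (i : ℕ) + 1 < j → coxLabel edges (nd i) (nd j) = 2 := by decide

theorem rel : Cfsg.Agent.H346.CoxA.Rel 6 (fun i => gen (nd i)) where
  sq i _ := gen_sq _
  braid i hi := gen_braid (lab3 ⟨i, by omega⟩)
  comm i j hij hj := gen_comm (lab2 ⟨i, by omega⟩ ⟨j, hj⟩ hij)

theorem hasReal : HasReal 7 Cfsg.Spor.Fi22 := by
  refine CoxSeven.hasReal rel ?_
  show gen .b * gen .a ≠ 1
  intro h
  apply ab_ne
  have h1 : gen .b = (gen .a)⁻¹ := eq_inv_of_mul_eq_one_left h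
  rw [h1, mul_inv_cancel, inv_mul_cancel]

end Fi22

theorem fi22 {S : Type*} [Group S] (h : Cfsg.Spor.IsoFi22 S) : P1 S := by
  have hc := Orders.fi22 h
  obtain ⟨e⟩ := h
  exact P1.of_hasReal (r := 7) (by norm_num) (by norm_num) (by rw [hc]; norm_num)
    (Fi22.hasReal.map_equiv e.symm)

end Cfsg.Agent.H661.Spor
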