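import Mathlib
import Cfsg.Prelude.Def_Blocks
import Cfsg.Agent.Blocks.Local
import Cfsg.Agent.Blocks.Basic
import Cfsg.Agent.Blocks.CliffordCentral
import Cfsg.Agent.Blocks.Fong

/-!
# Transport of blocks along isomorphisms, block induction along homomorphisms

* `pull e θ` : composition of an irreducible character with an isomorphism `e : K ≃* H`;
  `pullSet e b` : the corresponding operation on sets of irreducible characters.
  It preserves blocks, defect classes, defect groups, kernels.
* `IndHom M f b B` : block induction along a homomorphism `f : H →* G` (for the inclusion of a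
  subgroup this is `IsInducedBlock`), with transport (`indHom_comp_equiv`, `indHom_equiv_comp`,
  `indHom_conj`) and **transitivity** (`IndHom.trans`, `IndHom.of_trans`).
-/

set_option autoImplicit false

open Cfsg

namespace Cfsg.Agent.H661.Hom

open Cfsg.Agent.Blocks.Local Cfsg.Agent.Blocks.Basic

universe u v w

section Pull

variable {G : Type u} {H : Type v} {K : Type w} [Group G] [Group H] [Group K]

/-- Composition of an irreducible character with an isomorphism. -/
def pull (e : K ≃* H) (θ : IrrCharacter H) : IrrCharacter K :=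
  ⟨fun x => (θ : H → ℂ) (e x),
    Cfsg.Agent.Blocks.CliffordCentral.isIrrCharacter_comp θ.2 e.toMonoidHom e.surjective⟩

@[simp] theorem pull_apply (e : K ≃* H) (θ : IrrCharacter H) (x : K) :
    (pull e θ : K → ℂ) x = (θ : H → ℂ) (e x) := rfl

@[simp] theorem pull_symm_pull (e : K ≃* H) (θ : IrrCharacter H) : pull e.symm (pull e θ) = θ := by
  apply Subtype.ext
  funext x
  simp

@[simp] theorem pull_pull_symm (e : K ≃* H) (θ : IrrCharacter K) : pull e (pull e.symm θ) = θ := by
  apply Subtype.ext
  funext x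
  simp

theorem pull_pull (e : K ≃* H) (d : H ≃* G) (θ : IrrCharacter G) :
    pull e (pull d θ) = pull (e.trans d) θ := rfl

theorem pull_injective (e : K ≃* H) : Function.Injective (pull e) :=
  Function.LeftInverse.injective (pull_symm_pull e)

/-- The bijection between irreducible characters of isomorphic groups. -/
def pullEquiv (e : K ≃* H) : IrrCharacter H ≃ IrrCharacter K where
  toFun := pull e
  invFun := pull e.symm
  left_inv := pull_symm_pull e
  right_inv := pull_pull_symm e

/-- Transport of a set of irreducible characters along an isomorphism. -/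
def pullSet (e : K ≃* H) (b : Set (IrrCharacter H)) : Set (IrrCharacter K) :=
  {θ | pull e.symm θ ∈ b}

theorem mem_pullSet {e : K ≃* H} {b : Set (IrrCharacter H)} {θ : IrrCharacter K} :
    θ ∈ pullSet e b ↔ pull e.symm θ ∈ b := Iff.rfl

theorem pull_mem_pullSet {e : K ≃* H} {b : Set (IrrCharacter H)} {θ : IrrCharacter H} :
    pull e θ ∈ pullSet e b ↔ θ ∈ b := by
  rw [mem_pullSet, pull_symm_pull]

theorem pullSet_symm_pullSet (e : K ≃* H) (b : Set (IrrCharacter H)) :
    pullSet e.symm (pullSet e b) = b := by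
  ext θ
  rw [mem_pullSet, mem_pullSet, MulEquiv.symm_symm, pull_symm_pull]

theorem pullSet_pullSet_symm (e : K ≃* H) (b : Set (IrrCharacter K)) :
    pullSet e (pullSet e.symm b) = b := by
  ext θ
  rw [mem_pullSet, mem_pullSet, MulEquiv.symm_symm, pull_pull_symm]

theorem centralChar_pull (e : K ≃* H) (θ : IrrCharacter H) (k : K) :
    centralChar (pull e θ : K → ℂ) k = centralChar (θ : H → ℂ) (e k) :=
  Cfsg.Agent.Blocks.Fong.centralChar_comp_equiv e (θ : H → ℂ) k

variable {M : Ideal AlgInt}

theorem sameBlock_pull_iff (e : K ≃* H) {θ ψ : IrrCharacter H} :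
    SameBlock M (pull e θ : K → ℂ) (pull e ψ : K → ℂ) ↔ SameBlock M (θ : H → ℂ) (ψ : H → ℂ) := by
  constructor
  · intro h x
    have := h (e.symm x)
    rwa [centralChar_pull, centralChar_pull, e.apply_symm_apply] at this
  · intro h x
    rw [centralChar_pull, centralChar_pull]
    exact h (e x)

theorem blockOf_pull (e : K ≃* H) (θ : IrrCharacter H) :
    blockOf M (pull e θ : K → ℂ) = pullSet e (blockOf M (θ : H → ℂ)) := by
  ext ψ
  rw [mem_pullSet, mem_blockOf, mem_blockOf]
  have := sameBlock_pull_iff (M := M) e (θ := θ) (ψ := pull e.symm ψ)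
  rw [pull_pull_symm] at this
  exact this

theorem isPBlock_pullSet (e : K ≃* H) {b : Set (IrrCharacter H)} (hb : IsPBlock M b) :
    IsPBlock M (pullSet e b) := by
  obtain ⟨θ, rfl⟩ := hb
  exact ⟨pull e θ, (blockOf_pull e θ).symm⟩

theorem isPBlock_pullSet_iff (e : K ≃* H) {b : Set (IrrCharacter H)} :
    IsPBlock M (pullSet e b) ↔ IsPBlock M b := by
  refine ⟨fun h => ?_, isPBlock_pullSet e⟩
  rw [← pullSet_symm_pullSet e b]
  exact isPBlock_pullSet e.symm h

theorem blockCoeff_pullSet (e : K ≃* H) (b : Set (IrrCharacter H)) (k : K) :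
    blockCoeff (pullSet e b) k = blockCoeff b (e k) := by
  rw [blockCoeff_def, blockCoeff_def, Nat.card_congr e.toEquiv]
  congr 1
  refine finsum_mem_eq_of_bijOn (pull e.symm) ?_ ?_
  · refine ⟨fun θ hθ => hθ, (pull_injective e.symm).injOn, fun θ hθ => ?_⟩
    exact ⟨pull e θ, pull_mem_pullSet.2 hθ, pull_symm_pull e θ⟩
  · intro θ _
    simp

theorem mem_blockKer_pullSet (e : K ≃* H) (b : Set (IrrCharacter H)) (k : K) :
    k ∈ blockKer (pullSet e b) ↔ e k ∈ blockKer b := by
  constructor
  · intro h θ hθ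
    have := h (pull e θ) (pull_mem_pullSet.2 hθ)
    simpa using this
  · intro h θ hθ
    have := h (pull e.symm θ) hθ
    simpa using this

theorem isDefectClass_pullSet (e : K ≃* H) (b : Set (IrrCharacter H)) (k : K) :
    IsDefectClass M (pullSet e b) k ↔ IsDefectClass M b (e k) := by
  unfold IsDefectClass
  rw [blockCoeff_pullSet]
  refine and_congr_right fun _ => and_congr_right fun _ => ?_
  constructor
  · intro h θ hθ
    have := h (pull e θ) (pull_mem_pullSet.2 hθ)
    rwa [centralChar_pull] at this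
  · intro h θ hθ
    have := h (pull e.symm θ) hθ
    rwa [centralChar_pull, e.symm_apply_apply] at this

theorem centralizer_map_equiv (e : K ≃* H) (S : Subgroup K) :
    Subgroup.centralizer ((S.map e.toMonoidHom : Subgroup H) : Set H) =
      (Subgroup.centralizer (S : Set K)).map e.toMonoidHom := by
  ext x
  rw [Subgroup.mem_map_equiv, Subgroup.mem_centralizer_iff, Subgroup.mem_centralizer_iff]
  constructor
  · intro h s hs
    apply e.injective
    have := h (e s) ⟨s, hs, rfl⟩
    simpa using this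
  · rintro h _ ⟨s, hs, rfl⟩
    have := congrArg e (h s hs)
    simpa using this

theorem centralizer_singleton_map_equiv (e : K ≃* H) (k : K) :
    Subgroup.centralizer ({e k} : Set H) =
      (Subgroup.centralizer ({k} : Set K)).map e.toMonoidHom := by
  ext x
  rw [Subgroup.mem_map_equiv, Subgroup.mem_centralizer_singleton_iff,
    Subgroup.mem_centralizer_singleton_iff]
  constructor
  · intro hx
    apply e.injective
    simpa using hx
  · intro hx
    have := congrArg e hx
    simpa using this

theorem isSylowCentralizer_map_equiv {p : ℕ} (e : K ≃* H) {k : K} {D : Subgroup K}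
    (h : IsSylowCentralizer p k D) : IsSylowCentralizer p (e k) (D.map e.toMonoidHom) := by
  rw [isSylowCentralizer_iff] at h ⊢
  obtain ⟨h1, h2, h3⟩ := h
  refine ⟨h1.map _, ?_, fun Q hQ hQC hDQ => ?_⟩
  · rw [centralizer_singleton_map_equiv]
    exact Subgroup.map_mono h2
  · have h4 := h3 (Q.map e.symm.toMonoidHom) (hQ.map _) ?_ ?_
    · rw [← h4, Subgroup.map_map]
      have : e.toMonoidHom.comp e.symm.toMonoidHom = MonoidHom.id H := by
        ext x; simp
      rw [this, Subgroup.map_id]
    · rintro _ ⟨x, hx, rfl⟩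
      have := hQC hx
      rw [centralizer_singleton_map_equiv, Subgroup.mem_map_equiv] at this
      exact this
    · intro x hx
      exact ⟨e x, hDQ ⟨x, hx, rfl⟩, by simp⟩

theorem map_symm_map (e : K ≃* H) (D : Subgroup K) :
    (D.map e.toMonoidHom).map e.symm.toMonoidHom = D := by
  rw [Subgroup.map_map]
  have : e.symm.toMonoidHom.comp e.toMonoidHom = MonoidHom.id K := by
    ext x; simp
  rw [this, Subgroup.map_id]

theorem isSylowCentralizer_map_equiv_iff {p : ℕ} (e : K ≃* H) {k : K} {D : Subgroup K} :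
    IsSylowCentralizer p (e k) (D.map e.toMonoidHom) ↔ IsSylowCentralizer p k D := by
  refine ⟨fun h => ?_, isSylowCentralizer_map_equiv e⟩
  have := isSylowCentralizer_map_equiv e.symm h
  rwa [map_symm_map, e.symm_apply_apply] at this

/-- Defect groups are transported by isomorphisms. -/
theorem isDefectGroup_pullSet {p : ℕ} (e : K ≃* H) (b : Set (IrrCharacter H)) (D : Subgroup K) :
    IsDefectGroup p M (pullSet e b) D ↔ IsDefectGroup p M b (D.map e.toMonoidHom) := by
  rw [isDefectGroup_iff, isDefectGroup_iff]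
  constructor
  · rintro ⟨k, h1, h2⟩
    exact ⟨e k, (isDefectClass_pullSet e b k).1 h1, isSylowCentralizer_map_equiv e h2⟩
  · rintro ⟨h, h1, h2⟩
    refine ⟨e.symm h, (isDefectClass_pullSet e b _).2 (by rwa [e.apply_symm_apply]), ?_⟩
    rw [← isSylowCentralizer_map_equiv_iff e, e.apply_symm_apply]
    exact h2

end Pull

section IndHom

variable {G : Type u} {H : Type v} {K : Type w} [Group G] [Group H] [Group K]

/-- The central character of a function `ξ` on `H`, induced along the homomorphism `f`. -/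
noncomputable def indCC (f : H →* G) (ξ : H → ℂ) (g : G) : ℂ :=
  ∑ᶠ h ∈ {h : H | IsConj g (f h)}, ξ h / ξ 1

/-- Block induction along a homomorphism. -/
def IndHom (M : Ideal AlgInt) (f : H →* G) (b : Set (IrrCharacter H))
    (B : Set (IrrCharacter G)) : Prop :=
  IsPBlock M b ∧ IsPBlock M B ∧ ∀ ξ ∈ b, ∀ χ ∈ B, ∀ g : G,
    MemLocalIdeal M (indCC f (ξ : H → ℂ) g - centralChar (χ : G → ℂ) g)

theorem indCC_subtype (H : Subgroup G) (ξ : H → ℂ) (g : G) :
    indCC H.subtype ξ g = inducedCentralChar H ξ g := rfl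

theorem indHom_subtype {M : Ideal AlgInt} {H : Subgroup G} {b : Set (IrrCharacter H)}
    {B : Set (IrrCharacter G)} : IndHom M H.subtype b B ↔ IsInducedBlock M H b B := Iff.rfl

theorem indCC_isConj (f : H →* G) (ξ : H → ℂ) {g g' : G} (h : IsConj g g') :
    indCC f ξ g = indCC f ξ g' := by
  have h0 : {x : H | IsConj g (f x)} = {x : H | IsConj g' (f x)} :=
    Set.ext fun x => ⟨fun h1 => h.symm.trans h1, fun h1 => h.trans h1⟩
  unfold indCC
  rw [h0]

/-- Replacing `f` by a conjugate does not change the induced central character. -/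
theorem indCC_conj (f f' : H →* G) (x : G) (hf : ∀ h, f' h = x * f h * x⁻¹) (ξ : H → ℂ) (g : G) :
    indCC f' ξ g = indCC f ξ g := by
  have h1 : ∀ h, IsConj (f h) (f' h) := fun h => isConj_iff.2 ⟨x, (hf h).symm⟩
  have h0 : {h : H | IsConj g (f' h)} = {h : H | IsConj g (f h)} :=
    Set.ext fun h => ⟨fun h2 => h2.trans (h1 h).symm, fun h2 => h2.trans (h1 h)⟩
  unfold indCC
  rw [h0]

theorem indHom_conj {M : Ideal AlgInt} (f f' : H →* G) (x : G) (hf : ∀ h, f' h = x * f h * x⁻¹)
    {b : Set (IrrCharacter H)} {B : Set (IrrCharacter G)} :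
    IndHom M f' b B ↔ IndHom M f b B := by
  unfold IndHom
  simp only [indCC_conj f f' x hf]

/-- Transport of the source. -/
theorem indCC_comp_equiv (f : H →* G) (e : K ≃* H) (ξ : IrrCharacter H) (g : G) :
    indCC (f.comp e.toMonoidHom) (pull e ξ : K → ℂ) g = indCC f (ξ : H → ℂ) g := by
  unfold indCC
  refine finsum_mem_eq_of_bijOn e ?_ ?_
  · refine ⟨fun k hk => hk, e.injective.injOn, fun h hh => ⟨e.symm h, ?_, by simp⟩⟩
    simpa using hh
  · intro k _
    simp

theorem indHom_comp_equiv {M : Ideal AlgInt} (f : H →* G) (e : K ≃* H)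
    {b : Set (IrrCharacter H)} {B : Set (IrrCharacter G)} :
    IndHom M (f.comp e.toMonoidHom) (pullSet e b) B ↔ IndHom M f b B := by
  unfold IndHom
  rw [isPBlock_pullSet_iff]
  refine and_congr_right fun _ => and_congr_right fun _ => ?_
  constructor
  · intro h ξ hξ χ hχ g
    have := h (pull e ξ) (pull_mem_pullSet.2 hξ) χ hχ g
    rwa [indCC_comp_equiv] at this
  · intro h ξ hξ χ hχ g
    have := h (pull e.symm ξ) hξ χ hχ g
    rwa [← indCC_comp_equiv f e, pull_pull_symm] at this

/-- Transport of the target. -/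
theorem indCC_equiv_comp (f : H →* G) (e : G ≃* K) (ξ : H → ℂ) (g : G) :
    indCC (e.toMonoidHom.comp f) ξ (e g) = indCC f ξ g := by
  have h0 : {h : H | IsConj (e g) ((e.toMonoidHom.comp f) h)} = {h : H | IsConj g (f h)} := by
    refine Set.ext fun h => ⟨fun h1 => ?_, fun h1 => ?_⟩
    · have h2 := isConj_iff.1 (show IsConj (e g) (e (f h)) from h1)
      obtain ⟨c, hc⟩ := h2
      refine isConj_iff.2 ⟨e.symm c, e.injective ?_⟩
      simpa using hc
    · obtain ⟨c, hc⟩ := isConj_iff.1 (show IsConj g (f h) from h1)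
      refine isConj_iff.2 ⟨e c, ?_⟩
      have := congrArg e hc
      simpa using this
  unfold indCC
  rw [h0]

theorem indHom_equiv_comp {M : Ideal AlgInt} (f : H →* G) (e : G ≃* K)
    {b : Set (IrrCharacter H)} {B : Set (IrrCharacter K)} :
    IndHom M (e.toMonoidHom.comp f) b B ↔ IndHom M f b (pullSet e B) := by
  unfold IndHom
  rw [isPBlock_pullSet_iff]
  refine and_congr_right fun _ => and_congr_right fun _ => ?_
  constructor
  · intro h ξ hξ χ hχ g
    have := h ξ hξ (pull e.symm χ) hχ (e g)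
    rwa [indCC_equiv_comp, centralChar_pull, e.symm_apply_apply] at this
  · intro h ξ hξ χ hχ g
    have := h ξ hξ (pull e χ) (pull_mem_pullSet.2 hχ) (e.symm g)
    rwa [centralChar_pull, ← indCC_equiv_comp f e, e.apply_symm_apply] at this

end IndHom

section Trans

variable {G : Type u} {H : Type v} {K : Type w} [Group G] [Group H] [Group K]

/-- A sum over the elements mapped to a conjugation-stable set `S`, class by class. -/
theorem finsum_mem_eq_sum_classes [Finite K] (f : K →* H) (S : Set H)
    (hS : ∀ x ∈ S, ∀ y, IsConj x y → y ∈ S) (T : Finset (ConjClasses H))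
    (hT : ∀ c, c ∈ T ↔ ∃ x ∈ S, ConjClasses.mk x = c) (F : K → ℂ) :
    ∑ᶠ k ∈ {k : K | f k ∈ S}, F k = ∑ c ∈ T,
      ∑ᶠ k ∈ {k : K | IsConj (Quotient.out c) (f k)}, F k := by
  classical
  have := Fintype.ofFinite K
  rw [finsum_mem_eq_toFinset_sum,
    ← Finset.sum_fiberwise_of_maps_to (g := fun k => ConjClasses.mk (f k))
      (t := T) (fun x hx => (hT _).2 ⟨f x, by simpa using hx, rfl⟩)]
  refine Finset.sum_congr rfl fun c hc => ?_
  rw [finsum_mem_eq_toFinset_sum]
  refine Finset.sum_congr ?_ fun _ _ => rfl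
  obtain ⟨x, hx', rfl⟩ := (hT c).1 hc
  set y : H := Quotient.out (ConjClasses.mk x) with hy
  have hxy : IsConj x y := by
    rw [← ConjClasses.mk_eq_mk_iff_isConj]
    exact (Quotient.out_eq _).symm
  ext k
  simp only [Finset.mem_filter, Set.mem_toFinset, Set.mem_ofPred_eq,
    ConjClasses.mk_eq_mk_iff_isConj]
  constructor
  · rintro ⟨_, hz⟩
    exact hxy.symm.trans hz.symm
  · intro hz
    exact ⟨hS x hx' _ (hxy.trans hz), (hxy.trans hz).symm⟩

/-- The central character as a sum over the class. -/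
theorem finsum_class_eq_centralChar [Finite H] {ξ : H → ℂ} (hξ : IsIrrCharacter H ξ) (y : H) :
    ∑ᶠ h ∈ {h : H | IsConj y h}, ξ h / ξ 1 = centralChar ξ y := by
  classical
  have := Fintype.ofFinite H
  rw [finsum_mem_eq_toFinset_sum, Finset.sum_congr rfl (g := fun _ => ξ y / ξ 1)]
  · rw [Finset.sum_const, centralChar_def, index_centralizer_eq_ncard,
      Set.ncard_eq_toFinset_card', nsmul_eq_mul, mul_div_assoc]
  · intro z hz
    rw [irr_isConj hξ (show IsConj y z by simpa using hz)]

theorem isConj_stable (g : H →* G) (x : G) :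
    ∀ y ∈ {h : H | IsConj x (g h)}, ∀ z, IsConj y z → z ∈ {h : H | IsConj x (g h)} := by
  intro y hy z hyz
  obtain ⟨c, rfl⟩ := isConj_iff.1 hyz
  have hy' : IsConj x (g y) := hy
  exact hy'.trans (isConj_iff.2 ⟨g c, by simp⟩)

/-- The key congruence for transitivity: if `c` induces `b` along `f` then the central character
induced along `g ∘ f` by a member of `c` is congruent to the one induced along `g` by a member
of `b`. -/
theorem memLocalIdeal_indCC_comp [Finite H] [Finite K] {M : Ideal AlgInt} [M.IsPrime]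
    (f : K →* H) (g : H →* G) {c : Set (IrrCharacter K)} {b : Set (IrrCharacter H)}
    (h : IndHom M f c b) {ζ : IrrCharacter K} (hζ : ζ ∈ c) {ξ : IrrCharacter H} (hξ : ξ ∈ b)
    (x : G) :
    MemLocalIdeal M (indCC (g.comp f) (ζ : K → ℂ) x - indCC g (ξ : H → ℂ) x) := by
  classical
  have := Fintype.ofFinite H
  set S : Set H := {h : H | IsConj x (g h)} with hSdef
  have hS := isConj_stable g x
  have hT : ∀ c, c ∈ S.toFinset.image ConjClasses.mk ↔ ∃ x ∈ S, ConjClasses.mk x = c := by
    intro c
    simp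
  have h3 : indCC (g.comp f) (ζ : K → ℂ) x =
      ∑ᶠ k ∈ {k : K | f k ∈ S}, (ζ : K → ℂ) k / (ζ : K → ℂ) 1 := rfl
  have h4 : indCC g (ξ : H → ℂ) x =
      ∑ᶠ h ∈ {h : H | (MonoidHom.id H) h ∈ S}, (ξ : H → ℂ) h / (ξ : H → ℂ) 1 := rfl
  rw [h3, h4, finsum_mem_eq_sum_classes f S hS _ hT,
    finsum_mem_eq_sum_classes (MonoidHom.id H) S hS _ hT]
  refine memLocalIdeal_sum_sub_sum fun k _ => ?_
  have h5 := finsum_class_eq_centralChar ξ.2 (Quotient.out k)
  have h6 : ∑ᶠ h ∈ {h : H | IsConj (Quotient.out k) ((MonoidHom.id H) h)},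
      (ξ : H → ℂ) h / (ξ : H → ℂ) 1 = centralChar (ξ : H → ℂ) (Quotient.out k) := h5
  rw [h6]
  exact h.2.2 ζ hζ ξ hξ (Quotient.out k)

/-- **Transitivity of block induction**: if `b = c^H` and `B = b^G` then `B = c^G`. -/
theorem IndHom.trans [Finite H] [Finite K] {M : Ideal AlgInt} [M.IsPrime]
    {f : K →* H} {g : H →* G} {c : Set (IrrCharacter K)} {b : Set (IrrCharacter H)}
    {B : Set (IrrCharacter G)} (h : IndHom M f c b) (h' : IndHom M g b B) :
    IndHom M (g.comp f) c B := by
  refine ⟨h.1, h'.2.1, fun ζ hζ χ hχ x => ?_⟩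
  obtain ⟨ξ, hξ⟩ := isPBlock_nonempty h.2.1
  exact memLocalIdeal_sub_trans (memLocalIdeal_indCC_comp f g h hζ hξ x) (h'.2.2 ξ hξ χ hχ x)

/-- **Transitivity of block induction**, other direction: if `b = c^H` and `B = c^G` then
`B = b^G`. -/
theorem IndHom.of_trans [Finite H] [Finite K] {M : Ideal AlgInt} [M.IsPrime]
    {f : K →* H} {g : H →* G} {c : Set (IrrCharacter K)} {b : Set (IrrCharacter H)}
    {B : Set (IrrCharacter G)} (h : IndHom M f c b) (h' : IndHom M (g.comp f) c B) :
    IndHom M g b B := by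
  refine ⟨h.2.1, h'.2.1, fun ξ hξ χ hχ x => ?_⟩
  obtain ⟨ζ, hζ⟩ := isPBlock_nonempty h.1
  exact memLocalIdeal_sub_trans
    (memLocalIdeal_sub_comm (memLocalIdeal_indCC_comp f g h hζ hξ x)) (h'.2.2 ζ hζ χ hχ x)

/-- The induced block is unique. -/
theorem IndHom.unique {M : Ideal AlgInt} [M.IsPrime]
    {f : H →* G} {b : Set (IrrCharacter H)} {B B' : Set (IrrCharacter G)}
    (h : IndHom M f b B) (h' : IndHom M f b B') : B = B' := by
  obtain ⟨ξ, hξ⟩ := isPBlock_nonempty h.1
  obtain ⟨χ, hχ⟩ := isPBlock_nonempty h.2.1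
  obtain ⟨χ', hχ'⟩ := isPBlock_nonempty h'.2.1
  exact isPBlock_eq_of_sameBlock h.2.1 h'.2.1 hχ hχ' fun g =>
    memLocalIdeal_sub_trans (memLocalIdeal_sub_comm (h.2.2 ξ hξ χ hχ g)) (h'.2.2 ξ hξ χ' hχ' g)

end Trans

end Cfsg.Agent.H661.Hom
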