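import Cfsg.Agent.H661.SporTools
import Cfsg.Agent.SporadicA.PermTab

/-!
# Real elements of odd prime order in permutation groups given by tables
-/

set_option autoImplicit false

namespace Cfsg.Agent.H661.Spor.Tab

open Subgroup H722.RealP Equiv Cfsg.Agent.SporadicA.PermTab

/-- The tables of the list multiply to the identity. -/
def chkI (n : ℕ) (L : List ℕ) : Bool := allB (fun i => Nat.beq (ev L i) i) n

/-- `k` copies of a list. -/
def rp (L : List ℕ) (k : ℕ) : List ℕ := Nat.rec [] (fun _ ih => L ++ ih) k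

theorem rp_succ (L : List ℕ) (k : ℕ) : rp L (k + 1) = L ++ rp L k := rfl

theorem ev_append (L M : List ℕ) (j : ℕ) : ev (L ++ M) j = ev M (ev L j) := by
  induction L generalizing j with
  | nil => rfl
  | cons P L ih => exact ih (lk P j)

theorem ev_rp {n : ℕ} {g : Perm (Fin n)} {L : List ℕ} (h : ∀ i : Fin n, (g i : ℕ) = ev L i) (k : ℕ)
    (i : Fin n) : ((g ^ k) i : ℕ) = ev (rp L k) i := by
  induction k generalizing i with
  | zero => rfl
  | succ k ih =>
    rw [rp_succ, ev_append, ← h i, ← ih (g i), pow_succ]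
    rfl

theorem eq_one {n : ℕ} {g : Perm (Fin n)} {L : List ℕ} (h : ∀ i : Fin n, (g i : ℕ) = ev L i)
    (hL : chkI n L = true) : g = 1 := by
  refine Equiv.ext fun i => Fin.ext ?_
  rw [h i]
  exact Nat.eq_of_beq_eq_true ((allB_iff _ _).1 hL i i.2)

theorem hasReal {n : ℕ} {G : Subgroup (Perm (Fin n))} {S T : ℕ} (hS : InG G S) (hT : InG G T) {p : ℕ}
    (hp : p.Prime) (h1 : chkI n [S, S] = true) (h2 : chkI n [T, T] = true)
    (h3 : chkI n (rp [S, T] p) = true) (i : Fin n) (h4 : Nat.beq (ev [S, T] i) i = false) :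
    HasReal p G := by
  obtain ⟨s, hs, hs'⟩ := hS
  obtain ⟨t, ht, ht'⟩ := hT
  have hss : ∀ i : Fin n, ((s * s) i : ℕ) = ev [S, S] i := by
    intro i
    show ((s (s i) : Fin n) : ℕ) = lk S (lk S i)
    rw [hs', hs']
  have htt : ∀ i : Fin n, ((t * t) i : ℕ) = ev [T, T] i := by
    intro i
    show ((t (t i) : Fin n) : ℕ) = lk T (lk T i)
    rw [ht', ht']
  have hts : ∀ i : Fin n, ((t * s) i : ℕ) = ev [S, T] i := by
    intro i
    show ((t (s i) : Fin n) : ℕ) = lk T (lk S i)
    rw [ht', hs']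
  refine HasReal_of_dihedral hp (s := ⟨t, ht⟩) (t := ⟨s, hs⟩) (Subtype.ext (eq_one htt h2))
    (Subtype.ext (eq_one hss h1)) (Subtype.ext (eq_one (ev_rp hts p) h3)) ?_
  intro h
  have h5 : t * s = 1 := congrArg Subtype.val h
  have h6 := hts i
  rw [h5] at h6
  exact Nat.ne_of_beq_eq_false h4 h6.symm

end Cfsg.Agent.H661.Spor.Tab
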